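import Groth.Agent.GrpSchLib.Kunneth
import Groth.Agent.LieSLib.Bracket
import Groth.Agent.S8361
import Groth.Prelude.Def_GmPts
import Mathlib.Algebra.Polynomial.Laurent
import Mathlib.Algebra.Lie.Nilpotent

/-!
# Weights of a one-parameter subgroup on tangent vectors
-/

set_option autoImplicit false
set_option linter.style.haveILetI false
set_option linter.unusedSectionVars false
set_option maxHeartbeats 1000000

universe u

open CategoryTheory CategoryTheory.Limits MonoidalCategory CartesianMonoidalCategory AlgebraicGeometry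
open scoped MonObj LaurentPolynomial

attribute [local instance] CategoryTheory.Hom.monoid CategoryTheory.Hom.group

noncomputable section

namespace Groth.Agent.Deform.LieWeight

open GrpSchLib.Kunneth (Fn ev)

variable {k : Type u} [Field k]

/-- The structure map of the base. -/
abbrev f₀ (k : Type u) [Field k] : Spec (CommRingCat.of k) ⟶ Spec (CommRingCat.of k) :=
  Spec.map (CommRingCat.ofHom (algebraMap k k))

/-- An affine test scheme. -/
abbrev Ob (C : Type u) [CommRing C] [Algebra k C] : Over (Spec (CommRingCat.of k)) := LieSLib.obj (f₀ k) C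

variable {C : Type u} [CommRing C] [Algebra k C] {C' : Type u} [CommRing C'] [Algebra k C']

theorem ob_hom : (Ob (k := k) C).hom = Spec.map (CommRingCat.ofHom (algebraMap k C)) := by
  show Spec.map _ ≫ Spec.map _ = _
  rw [LieS.specMap_comp, Algebra.algebraMap_self, RingHom.comp_id]

/-- The functions on an affine test scheme. -/
def fnOb (C : Type u) [CommRing C] [Algebra k C] : Fn (Ob (k := k) C) ≃ₐ[k] C :=
  AlgEquiv.ofRingEquiv (f := (Scheme.ΓSpecIso (CommRingCat.of C)).commRingCatIsoToRingEquiv) fun c => by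
    show (Scheme.ΓSpecIso (CommRingCat.of C)).hom ((Ob (k := k) C).hom.appTop
      ((Scheme.ΓSpecIso (CommRingCat.of k)).inv c)) = algebraMap k C c
    rw [ob_hom, ← CommRingCat.comp_apply (Spec.map (CommRingCat.ofHom (algebraMap k C))).appTop,
      Scheme.ΓSpecIso_naturality, CommRingCat.comp_apply, ← CommRingCat.comp_apply (Scheme.ΓSpecIso (CommRingCat.of k)).inv,
      Iso.inv_hom_id]
    rfl

/-- The morphism of an algebra map. -/
def obMap (h : C →ₐ[k] C') : Ob (k := k) C' ⟶ Ob (k := k) C :=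
  LieSLib.mor (f₀ k) h.toRingHom h.comp_algebraMap

theorem fnOb_map (h : C →ₐ[k] C') (r : Fn (Ob (k := k) C)) : fnOb C' (ev (obMap h) r) = h (fnOb C r) := by
  show (Scheme.ΓSpecIso (CommRingCat.of C')).hom ((Spec.map (CommRingCat.ofHom h.toRingHom)).appTop r) = _
  rw [← CommRingCat.comp_apply, Scheme.ΓSpecIso_naturality, CommRingCat.comp_apply]
  rfl

variable {G : Over (Spec (CommRingCat.of k))}

/-- The algebra map of a point. -/
def coord (x : Ob (k := k) C ⟶ G) : Fn G →ₐ[k] C := (fnOb C).toAlgHom.comp (ev x)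

theorem coord_map (h : C →ₐ[k] C') (x : Ob (k := k) C ⟶ G) : coord (obMap h ≫ x) = h.comp (coord x) :=
  AlgHom.ext fun a => fnOb_map h (ev x a)

variable [IsAffine G.left]

theorem hom_ext_fn {T : Over (Spec (CommRingCat.of k))} {g g' : T ⟶ G} (h : ev g = ev g') : g = g' :=
  Over.OverMorphism.ext (ext_of_isAffine (by ext a; exact AlgHom.congr_fun h a))

theorem coord_injective {x y : Ob (k := k) C ⟶ G} (h : coord x = coord y) : x = y :=
  hom_ext_fn (AlgHom.ext fun a => (fnOb C).injective (AlgHom.congr_fun h a))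

/-- The point of an algebra map. -/
def pG (φ : Fn G →ₐ[k] C) : Ob (k := k) C ⟶ G :=
  Over.homMk (Spec.map (CommRingCat.ofHom φ.toRingHom) ≫ G.left.isoSpec.inv) (by
    have hG : G.left.isoSpec.hom ≫ Spec.map (CommRingCat.ofHom (algebraMap k (Fn G))) = G.hom := by
      show G.left.toSpecΓ ≫ Spec.map ((Scheme.ΓSpecIso (CommRingCat.of k)).inv ≫ G.hom.appTop) = G.hom
      rw [Spec.map_comp, ← Scheme.toSpecΓ_naturality_assoc, toSpecΓ_SpecMap_ΓSpecIso_inv, Category.comp_id]
    rw [Category.assoc, ← (Iso.eq_inv_comp _).2 hG, LieS.specMap_comp]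
    exact (congrArg (fun q => Spec.map (CommRingCat.ofHom q)) φ.comp_algebraMap).trans ob_hom.symm)

theorem coord_pG (φ : Fn G →ₐ[k] C) : coord (pG φ) = φ := AlgHom.ext fun a => by
  show (Scheme.ΓSpecIso (CommRingCat.of C)).hom
    ((Spec.map (CommRingCat.ofHom φ.toRingHom) ≫ G.left.isoSpec.inv).appTop a) = _
  rw [Scheme.Hom.comp_appTop, CommRingCat.comp_apply,
    ← CommRingCat.comp_apply (Spec.map (CommRingCat.ofHom φ.toRingHom)).appTop, Scheme.ΓSpecIso_naturality,
    CommRingCat.comp_apply]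
  show φ ((Scheme.ΓSpecIso Γ(G.left, ⊤)).hom (G.left.isoSpec.inv.appTop a)) = φ a
  congr 1
  rw [← Scheme.toSpecΓ_appTop, ← CommRingCat.comp_apply]
  show (G.left.isoSpec.inv.appTop ≫ G.left.isoSpec.hom.appTop) a = a
  rw [← Scheme.Hom.comp_appTop, Iso.hom_inv_id]
  rfl

theorem obMap_pG (h : C →ₐ[k] C') (φ : Fn G →ₐ[k] C) : obMap h ≫ pG φ = pG (h.comp φ) :=
  coord_injective (by rw [coord_map, coord_pG, coord_pG])

variable [GrpObj G]

/-- Conjugation by a one-parameter subgroup. -/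
def cj (lam : Red.Gm (Spec (CommRingCat.of k)) ⟶ G) {T : Over (Spec (CommRingCat.of k))} (u : (Fn T)ˣ)
    (g : T ⟶ G) : T ⟶ G :=
  (GmPts.ptOfUnit u ≫ lam) * g * (GmPts.ptOfUnit u ≫ lam)⁻¹

/-- A unit of the ring read on the test scheme. -/
def un (u : Cˣ) : (Fn (Ob (k := k) C))ˣ := Units.map (fnOb (k := k) C).symm.toAlgHom.toRingHom.toMonoidHom u

variable (lam : Red.Gm (Spec (CommRingCat.of k)) ⟶ G) [IsMonHom lam]

/-- Conjugation on algebra maps. -/
def cjA (u : Cˣ) (φ : Fn G →ₐ[k] C) : Fn G →ₐ[k] C := coord (cj lam (un u) (pG φ))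

theorem pG_cjA (u : Cˣ) (φ : Fn G →ₐ[k] C) : pG (cjA lam u φ) = cj lam (un u) (pG φ) :=
  coord_injective (coord_pG _)

theorem cjA_map (h : C →ₐ[k] C') (u : Cˣ) (φ : Fn G →ₐ[k] C) :
    h.comp (cjA lam u φ) = cjA lam (Units.map h.toRingHom.toMonoidHom u) (h.comp φ) := by
  rw [cjA, ← coord_map, cjA]
  congr 1
  rw [← obMap_pG]
  simp only [cj, MonObj.comp_mul, GrpObj.comp_inv, ← Category.assoc, GmPts.ptOfUnit_comp]
  congr 4 <;>
  · refine Units.ext ((fnOb (k := k) C').injective ?_)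
    show fnOb C' (ev (obMap h) ((fnOb C).symm (u : C))) = fnOb C' ((fnOb C').symm (h u))
    rw [fnOb_map, AlgEquiv.apply_symm_apply, AlgEquiv.apply_symm_apply]

theorem cjA_mul (u u' : Cˣ) (φ : Fn G →ₐ[k] C) : cjA lam (u * u') φ = cjA lam u (cjA lam u' φ) := by
  conv_rhs => rw [cjA, pG_cjA]
  rw [cjA, un, map_mul]
  simp only [cj, GmPts.ptOfUnit_mul, MonObj.mul_comp, mul_inv_rev, _root_.mul_assoc]
  rfl

theorem cjA_one (φ : Fn G →ₐ[k] C) : cjA lam 1 φ = φ := by
  rw [cjA, un, map_one]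
  simp only [cj, GmPts.ptOfUnit_one, MonObj.one_comp, _root_.one_mul, inv_one, _root_.mul_one]
  exact coord_pG φ

/-- The unit on algebra maps. -/
def cou : Fn G →ₐ[k] k := coord (1 : Ob (k := k) k ⟶ G)

/-- The unit with values in an algebra. -/
def couC (C : Type u) [CommRing C] [Algebra k C] : Fn G →ₐ[k] C := (Algebra.ofId k C).comp cou

theorem pG_couC : pG (couC (G := G) C) = 1 :=
  coord_injective (by rw [coord_pG, couC, cou, ← coord_map, MonObj.comp_one])

theorem cjA_couC (u : Cˣ) : cjA lam u (couC C) = couC (G := G) C := by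
  refine (coord_pG _).symm.trans ((congrArg coord ?_).trans (coord_pG _))
  rw [pG_cjA, pG_couC, cj, _root_.mul_one, mul_inv_cancel]

/-- The coordinate as a unit. -/
def tU (R : Type u) [CommRing R] : (R[T;T⁻¹])ˣ where
  val := LaurentPolynomial.T 1
  inv := LaurentPolynomial.T (-1)
  val_inv := by rw [← LaurentPolynomial.T_add, add_neg_cancel, LaurentPolynomial.T_zero]
  inv_val := by rw [← LaurentPolynomial.T_add, neg_add_cancel, LaurentPolynomial.T_zero]

theorem val_tU_zpow {R : Type u} [CommRing R] (n : ℤ) : ((tU R ^ n : (R[T;T⁻¹])ˣ) : R[T;T⁻¹]) = LaurentPolynomial.T n := by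
  induction n using Int.induction_on with
  | zero => rw [zpow_zero, Units.val_one, LaurentPolynomial.T_zero]
  | succ m hm => rw [zpow_add_one, Units.val_mul, hm, LaurentPolynomial.T_add]; rfl
  | pred m hm =>
    rw [zpow_sub_one, Units.val_mul, hm, sub_eq_add_neg, LaurentPolynomial.T_add]
    rfl

theorem algebraMap_lp {R : Type u} [CommRing R] [Algebra k R] (c : k) :
    algebraMap k (R[T;T⁻¹]) c = LaurentPolynomial.C (algebraMap k R c) := LaurentPolynomial.algebraMap_apply c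

/-- Coefficientwise constants. -/
def Cc (R : Type u) [CommRing R] [Algebra k R] : R →ₐ[k] R[T;T⁻¹] :=
  AlgHom.mk LaurentPolynomial.C fun c => (algebraMap_lp c).symm

/-- Evaluation at a unit. -/
def evU {R : Type u} [CommRing R] [Algebra k R] (h : R →ₐ[k] C) (u : Cˣ) : R[T;T⁻¹] →ₐ[k] C :=
  AlgHom.mk (LaurentPolynomial.eval₂ h.toRingHom u) fun c => by
    show LaurentPolynomial.eval₂ h.toRingHom u (algebraMap k (R[T;T⁻¹]) c) = _
    rw [algebraMap_lp, LaurentPolynomial.eval₂_C]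
    exact h.commutes c

theorem evU_eq_sum {R : Type u} [CommRing R] [Algebra k R] (h : R →ₐ[k] C) (u : Cˣ) (p : R[T;T⁻¹]) :
    evU h u p = p.coeff.sum fun i r => h r * ((u ^ i : Cˣ) : C) := by
  induction p using LaurentPolynomial.induction_on' with
  | add p q hp hq =>
    rw [map_add, hp, hq, AddMonoidAlgebra.coeff_add]
    exact (Finsupp.sum_add_index' (fun i => by simp) (fun i a b => by rw [map_add, add_mul])).symm
  | C_mul_T n a =>
    rw [← LaurentPolynomial.single_eq_C_mul_T, AddMonoidAlgebra.coeff_single, Finsupp.sum_single_index (by simp),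
      LaurentPolynomial.single_eq_C_mul_T]
    exact LaurentPolynomial.eval₂_C_mul_T _ _ a n

/-- The universal conjugate. -/
def Phi : Fn G →ₐ[k] (Fn G)[T;T⁻¹] := cjA lam (tU (Fn G)) (Cc (Fn G))

/-- The weight components of a function. -/
def wt (a : Fn G) (n : ℤ) : Fn G := (Phi lam a).coeff n

theorem cjA_apply (u : Cˣ) (φ : Fn G →ₐ[k] C) (a : Fn G) : cjA lam u φ a = evU φ u (Phi lam a) := by
  have h1 : (evU φ u).comp (Cc (Fn G)) = φ := AlgHom.ext fun r => LaurentPolynomial.eval₂_C _ _ r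
  have h2 : Units.map (evU φ u).toRingHom.toMonoidHom (tU (Fn G)) = u := Units.ext (by
    show LaurentPolynomial.eval₂ φ.toRingHom u (LaurentPolynomial.T 1) = _
    rw [LaurentPolynomial.eval₂_T, zpow_one])
  have h3 := cjA_map lam (evU φ u) (tU (Fn G)) (Cc (Fn G))
  rw [h1, h2] at h3
  exact (AlgHom.congr_fun h3 a).symm

theorem cjA_sum (u : Cˣ) (φ : Fn G →ₐ[k] C) (a : Fn G) :
    cjA lam u φ a = (Phi lam a).coeff.sum fun i r => φ r * ((u ^ i : Cˣ) : C) := by
  rw [cjA_apply, evU_eq_sum]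

theorem Phi_wt (a : Fn G) (n : ℤ) : Phi lam (wt lam a n) = LaurentPolynomial.C (wt lam a n) * LaurentPolynomial.T n := by
  let s : ((Fn G)[T;T⁻¹][T;T⁻¹])ˣ := Units.map (LaurentPolynomial.C (R := (Fn G)[T;T⁻¹])).toMonoidHom (tU (Fn G))
  let ι₂ : Fn G →ₐ[k] (Fn G)[T;T⁻¹][T;T⁻¹] := (Cc ((Fn G)[T;T⁻¹])).comp (Cc (Fn G))
  have hs : cjA lam s ι₂ = (Cc ((Fn G)[T;T⁻¹])).comp (Phi lam) := (cjA_map lam (Cc ((Fn G)[T;T⁻¹])) _ _).symm
  have h := AlgHom.congr_fun (cjA_mul lam (tU ((Fn G)[T;T⁻¹])) s ι₂) a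
  rw [hs, cjA_sum, cjA_sum] at h
  have hL : ∀ (i : ℤ) (r : Fn G), ι₂ r * (((tU ((Fn G)[T;T⁻¹]) * s) ^ i : ((Fn G)[T;T⁻¹][T;T⁻¹])ˣ) : (Fn G)[T;T⁻¹][T;T⁻¹]) =
      AddMonoidAlgebra.single i (LaurentPolynomial.C r * LaurentPolynomial.T i) := fun i r => by
    rw [mul_zpow, ← map_zpow, Units.val_mul, val_tU_zpow, LaurentPolynomial.single_eq_C_mul_T, map_mul,
      mul_comm (LaurentPolynomial.T i), ← _root_.mul_assoc]
    congr 2
    exact congrArg LaurentPolynomial.C (val_tU_zpow i)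
  have hR : ∀ (i : ℤ) (r : Fn G), (Cc ((Fn G)[T;T⁻¹])).comp (Phi lam) r * ((tU ((Fn G)[T;T⁻¹]) ^ i : ((Fn G)[T;T⁻¹][T;T⁻¹])ˣ) : (Fn G)[T;T⁻¹][T;T⁻¹]) =
      AddMonoidAlgebra.single i (Phi lam r) := fun i r => by
    rw [val_tU_zpow, LaurentPolynomial.single_eq_C_mul_T]
    rfl
  simp only [hL, hR] at h
  have h2 := congrArg (fun p : (Fn G)[T;T⁻¹][T;T⁻¹] => p.coeff n) h
  simp only [Finsupp.sum, AddMonoidAlgebra.coeff_sum, Finsupp.finsetSum_apply, AddMonoidAlgebra.coeff_single,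
    Finsupp.single_apply, Finset.sum_ite_eq'] at h2
  by_cases hn : n ∈ (Phi lam a).coeff.support
  · rw [if_pos hn, if_pos hn] at h2
    exact h2.symm
  · rw [Finsupp.notMem_support_iff] at hn
    rw [wt, hn, map_zero, map_zero, zero_mul]

theorem coeff_Phi_wt (a : Fn G) (i n : ℤ) : (Phi lam (wt lam a n)).coeff i = if n = i then wt lam a n else 0 := by
  rw [Phi_wt, ← LaurentPolynomial.single_eq_C_mul_T, AddMonoidAlgebra.coeff_single, Finsupp.single_apply]

theorem cou_wt (a : Fn G) (n : ℤ) : cou (wt lam a n) = if n = 0 then cou a else 0 := by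
  have h := AlgHom.congr_fun (cjA_couC (G := G) lam (tU k)) a
  rw [cjA_sum] at h
  have hL : ∀ i r, couC (k[T;T⁻¹]) r * ((tU k ^ i : (k[T;T⁻¹])ˣ) : k[T;T⁻¹]) =
      AddMonoidAlgebra.single i (cou (G := G) r) := fun i r => by
    rw [val_tU_zpow, LaurentPolynomial.single_eq_C_mul_T]
    show algebraMap k (k[T;T⁻¹]) (cou r) * _ = _
    rw [algebraMap_lp, Algebra.algebraMap_self_apply]
  simp only [hL] at h
  have h2 := congrArg (fun p : k[T;T⁻¹] => p.coeff n) h
  simp only [Finsupp.sum, AddMonoidAlgebra.coeff_sum, Finsupp.finsetSum_apply, AddMonoidAlgebra.coeff_single,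
    Finsupp.single_apply, Finset.sum_ite_eq'] at h2
  have h3 : ((couC (k[T;T⁻¹]) a : k[T;T⁻¹])).coeff n = if n = 0 then cou a else 0 := by
    show (algebraMap k (k[T;T⁻¹]) (cou a)).coeff n = _
    rw [algebraMap_lp, Algebra.algebraMap_self_apply, ← LaurentPolynomial.single_eq_C, AddMonoidAlgebra.coeff_single,
      Finsupp.single_apply]
    simp [eq_comm]
  rw [h3] at h2
  by_cases hn : n ∈ (Phi lam a).coeff.support
  · rw [if_pos hn] at h2; exact h2
  · rw [Finsupp.notMem_support_iff] at hn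
    rw [wt, hn, map_zero]
    simpa [Finsupp.notMem_support_iff.mpr hn] using h2

theorem sum_wt (φ : Fn G →ₐ[k] C) (a : Fn G) : φ a = (Phi lam a).coeff.sum fun _ r => φ r := by
  conv_lhs => rw [← cjA_one lam φ]
  rw [cjA_sum]
  simp

/-- A point vanishing on the components of nonzero weight is fixed by the roots of unity. -/
theorem cjA_eq_self (u : Cˣ) (φ : Fn G →ₐ[k] C) (hu : ∀ i : ℤ, (i : k) = 0 → u ^ i = 1)
    (hφ : ∀ (a : Fn G) (i : ℤ), (i : k) ≠ 0 → φ (wt lam a i) = 0) : cjA lam u φ = φ := AlgHom.ext fun a => by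
  rw [cjA_sum, sum_wt lam φ a]
  refine Finsupp.sum_congr fun i _ => ?_
  by_cases hi : (i : k) = 0
  · rw [hu i hi, Units.val_one, _root_.mul_one]
  · rw [show φ ((Phi lam a).coeff i) = 0 from hφ a i hi, zero_mul]

/-- A point of the form `ε + c d`. -/
def ptD (d : Fn G →ₗ[k] k) (hd : ∀ a b, d (a * b) = cou a * d b + d a * cou b) (hd1 : d 1 = 0) (c : C)
    (hc : c * c = 0) : Fn G →ₐ[k] C :=
  AlgHom.ofLinearMap ((Algebra.linearMap k C).comp cou.toLinearMap + (LinearMap.toSpanSingleton k C c).comp d)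
    (by simp [LinearMap.toSpanSingleton_apply, hd1])
    (fun a b => by
      simp only [LinearMap.add_apply, LinearMap.coe_comp, Function.comp_apply, AlgHom.toLinearMap_apply,
        Algebra.linearMap_apply, LinearMap.toSpanSingleton_apply, hd, map_mul, Algebra.smul_def, map_add]
      linear_combination (-(algebraMap k C (d a)) * algebraMap k C (d b)) * hc)

theorem ptD_apply (d : Fn G →ₗ[k] k) (hd : ∀ a b, d (a * b) = cou a * d b + d a * cou b) (hd1 : d 1 = 0) (c : C)
    (hc : c * c = 0) (a : Fn G) : ptD d hd hd1 c hc a = algebraMap k C (cou a) + algebraMap k C (d a) * c := by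
  simp [ptD, LinearMap.toSpanSingleton_apply, Algebra.smul_def]

/-- The ring map out of the dual numbers. -/
def dHom (c : C) (hc : c * c = 0) : DualNumber k →ₐ[k] C :=
  AlgHom.mk (LieS.dualHom (algebraMap k C) c hc) fun r => by
    simp [TrivSqZeroExt.algebraMap_eq_inl']

theorem obMap_dHom (v : LieS.Lie G k (f₀ k)) (c : C) (hc : c * c = 0) :
    LieSLib.ev v c hc = obMap (dHom c hc) ≫ v.1 := rfl

theorem coord_fst (v : LieS.Lie G k (f₀ k)) (a : Fn G) : (coord v.1 a).fst = cou a := by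
  have h : coord (obMap (C := DualNumber k) (TrivSqZeroExt.fstHom k k k) ≫ v.1) = cou :=
    congrArg coord (LieSLib.zeroSec_comp v)
  rw [coord_map] at h
  exact AlgHom.congr_fun h a

/-- The tangent functional. -/
def der (v : LieS.Lie G k (f₀ k)) : Fn G →ₗ[k] k where
  toFun a := (coord v.1 a).snd
  map_add' a b := by rw [map_add, TrivSqZeroExt.snd_add]
  map_smul' r a := by rw [map_smul, TrivSqZeroExt.snd_smul]; rfl

theorem coord_ev (v : LieS.Lie G k (f₀ k)) (c : C) (hc : c * c = 0) (a : Fn G) :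
    coord (LieSLib.ev v c hc) a = algebraMap k C (cou a) + algebraMap k C (der v a) * c := by
  rw [obMap_dHom, coord_map, AlgHom.comp_apply]
  show LieS.dualHom (algebraMap k C) c hc (coord v.1 a) = _
  rw [LieS.dualHom_apply, coord_fst]
  rfl

theorem ev_add (v : LieS.Lie G k (f₀ k)) (c c' : C) (hc : c * c = 0) (hc' : c' * c' = 0) (hcc : c * c' = 0)
    (h : (c + c') * (c + c') = 0) : LieSLib.ev v (c + c') h = LieSLib.ev v c hc * LieSLib.ev v c' hc' := by
  have hv := (LieS.mem_Lie_iff G k (f₀ k) v.1).mp v.2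
  have e : LieSLib.L (f₀ k) 1 1 ≫ v.1 = (LieSLib.L (f₀ k) 1 0 ≫ v.1) * (LieSLib.L (f₀ k) 0 1 ≫ v.1) := by
    refine LieSLib.glue_ext (f₀ k) ?_ ?_ <;>
      simp only [MonObj.comp_mul, ← Category.assoc, LieSLib.Q1_L, LieSLib.Q2_L, LieSLib.scale_zero_comp (f₀ k) hv,
        _root_.mul_one, _root_.one_mul]
  let σ := LieSLib.lift2 (algebraMap k C) c c' hc hc' hcc
  have hσ : σ.comp (algebraMap k (LieSLib.T2 k)) = algebraMap k C :=
    RingHom.ext fun x => by simp [σ, TrivSqZeroExt.algebraMap_eq_inl']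
  have key : ∀ (b b' : k) (d : C) (hd : d * d = 0), algebraMap k C b * c + algebraMap k C b' * c' = d →
      LieSLib.mor (f₀ k) σ hσ ≫ LieSLib.L (f₀ k) b b' ≫ v.1 = LieSLib.ev v d hd := by
    intro b b' d hd hbd
    rw [LieSLib.L, ← Category.assoc, LieSLib.ev]
    refine congrArg (· ≫ v.1) (Over.OverMorphism.ext ?_)
    show Spec.map _ ≫ Spec.map _ = Spec.map _
    rw [LieS.specMap_comp]
    congr 2
    refine RingHom.ext fun z => ?_
    simp [σ, LieSLib.lin, ← hbd, TrivSqZeroExt.algebraMap_eq_inl']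
    ring
  have h2 := congrArg (LieSLib.mor (f₀ k) σ hσ ≫ ·) e
  simp only [MonObj.comp_mul] at h2
  rwa [key 1 1 (c + c') h (by simp), key 1 0 c hc (by simp), key 0 1 c' hc' (by simp)] at h2

omit [IsAffine G.left] in
theorem zeroSec_of_fst' {S : Scheme.{u}} {X : Over S} [GrpObj X] {B : Type u} [CommRing B]
    (f : Spec (CommRingCat.of B) ⟶ S) (w : LieS.dpt B f ⟶ X)
    (h : LieSLib.mor f (TrivSqZeroExt.fstHom B B B).toRingHom (LieS.fstHom_comp_algebraMap B) ≫ w = 1) :
    LieS.zeroSec B f ≫ w = 1 := by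
  let a : LieS.pt B f ⟶ LieSLib.obj f B := Over.homMk (𝟙 _) (by
    show 𝟙 _ ≫ Spec.map (CommRingCat.ofHom (algebraMap B B)) ≫ f = f
    rw [Category.id_comp, Algebra.algebraMap_self, CommRingCat.ofHom_id]
    exact (congrArg (· ≫ f) (Spec.map_id _)).trans (Category.id_comp f))
  have e : LieS.zeroSec B f = a ≫ LieSLib.mor f (TrivSqZeroExt.fstHom B B B).toRingHom
      (LieS.fstHom_comp_algebraMap B) := LieSLib.zeroSec_eq
  rw [e]
  exact (Category.assoc _ _ _).trans ((congrArg (a ≫ ·) h).trans (MonObj.comp_one a))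

theorem pG_fst (ψ : Fn G →ₐ[k] DualNumber k) (h : ∀ a, TrivSqZeroExt.fst (ψ a) = cou a) :
    obMap (TrivSqZeroExt.fstHom k k k) ≫ pG ψ = 1 := by
  rw [obMap_pG, ← pG_couC]
  congr 1
  refine AlgHom.ext fun a => ?_
  show TrivSqZeroExt.fst (ψ a) = algebraMap k k (cou a)
  rw [h, Algebra.algebraMap_self_apply]

/-- The weight `n` part of a tangent vector. -/
theorem exists_component (v : LieS.Lie G k (f₀ k)) (n : ℤ) :
    ∃ w : LieS.Lie G k (f₀ k), ∀ a, der w a = der v (wt lam a n) := by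
  let inc : k[T;T⁻¹] →ₐ[k] (DualNumber (k[T;T⁻¹])) := IsScalarTower.toAlgHom k (k[T;T⁻¹]) (DualNumber (k[T;T⁻¹]))
  let h : DualNumber k →ₐ[k] (DualNumber (k[T;T⁻¹])) := dHom (DualNumber.eps : (DualNumber (k[T;T⁻¹]))) (LieS.eps_sq _)
  let uT : (DualNumber (k[T;T⁻¹]))ˣ := Units.map inc.toRingHom.toMonoidHom (tU k)
  let χ : Fn G →ₐ[k] (DualNumber (k[T;T⁻¹])) := cjA lam uT (h.comp (coord v.1))
  have hval : ∀ a, h (coord v.1 a) = algebraMap k (DualNumber (k[T;T⁻¹])) (cou a) + algebraMap k (DualNumber (k[T;T⁻¹])) (der v a) * DualNumber.eps :=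
    fun a => by
      show LieS.dualHom (algebraMap k (DualNumber (k[T;T⁻¹]))) DualNumber.eps (LieS.eps_sq (k[T;T⁻¹])) (coord v.1 a) = _
      rw [LieS.dualHom_apply, coord_fst]
      rfl
  have hsnd : ∀ a, TrivSqZeroExt.snd (χ a) = (Phi lam a).coeff.sum fun i r => AddMonoidAlgebra.single i (der v r) :=
    fun a => by
      show TrivSqZeroExt.snd (cjA lam uT (h.comp (coord v.1)) a) = _
      rw [cjA_sum, Finsupp.sum, Finsupp.sum]
      refine (map_sum (TrivSqZeroExt.sndHom (k[T;T⁻¹]) (k[T;T⁻¹])) _ _).trans (Finset.sum_congr rfl fun i _ => ?_)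
      show TrivSqZeroExt.snd (h (coord v.1 _) * ((uT ^ i : (DualNumber (k[T;T⁻¹]))ˣ) : (DualNumber (k[T;T⁻¹])))) = _
      rw [hval, ← map_zpow, IsScalarTower.algebraMap_apply k (k[T;T⁻¹]) (DualNumber (k[T;T⁻¹])), IsScalarTower.algebraMap_apply k (k[T;T⁻¹]) (DualNumber (k[T;T⁻¹]))]
      show TrivSqZeroExt.snd ((algebraMap (k[T;T⁻¹]) (DualNumber (k[T;T⁻¹])) _ + algebraMap (k[T;T⁻¹]) (DualNumber (k[T;T⁻¹])) _ * DualNumber.eps) *
        algebraMap (k[T;T⁻¹]) (DualNumber (k[T;T⁻¹])) (((tU k) ^ i : (k[T;T⁻¹])ˣ) : k[T;T⁻¹])) = _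
      rw [val_tU_zpow, LaurentPolynomial.single_eq_C_mul_T]
      simp [TrivSqZeroExt.algebraMap_eq_inl', algebraMap_lp]
  have hfst : ∀ a, TrivSqZeroExt.fst (χ a) = algebraMap k (k[T;T⁻¹]) (cou a) := fun a => by
    let φ : (DualNumber (k[T;T⁻¹])) →ₐ[k] k[T;T⁻¹] := (TrivSqZeroExt.fstHom (k[T;T⁻¹]) (k[T;T⁻¹]) (k[T;T⁻¹])).restrictScalars k
    have h1 : φ.comp χ = couC (G := G) (k[T;T⁻¹]) := by
      show φ.comp (cjA lam uT (h.comp (coord v.1))) = _
      rw [cjA_map, ← cjA_couC (G := G) lam (tU k)]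
      congr 1
      refine AlgHom.ext fun r => ?_
      show TrivSqZeroExt.fst (h (coord v.1 r)) = algebraMap k (k[T;T⁻¹]) (cou r)
      rw [hval]
      simp [TrivSqZeroExt.algebraMap_eq_inl', algebraMap_lp]
    exact AlgHom.congr_fun h1 a
  have hn : ∀ a, (TrivSqZeroExt.snd (χ a)).coeff n = der v (wt lam a n) := fun a => by
    rw [hsnd, Finsupp.sum]
    simp only [AddMonoidAlgebra.coeff_sum, Finsupp.finsetSum_apply, AddMonoidAlgebra.coeff_single, Finsupp.single_apply,
      Finset.sum_ite_eq']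
    split_ifs with hn
    · rfl
    · rw [wt, Finsupp.notMem_support_iff.mp hn, map_zero]
  let d : Fn G →ₗ[k] k :=
    { toFun := fun a => der v (wt lam a n)
      map_add' := fun a b => by
        show der v ((Phi lam (a + b)).coeff n) = _
        rw [map_add, AddMonoidAlgebra.coeff_add, Finsupp.add_apply, map_add]
        rfl
      map_smul' := fun r a => by
        show der v ((Phi lam (r • a)).coeff n) = _
        rw [map_smul, AddMonoidAlgebra.coeff_smul, Finsupp.smul_apply, map_smul]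
        rfl }
  have hd : ∀ a b, d (a * b) = cou a * d b + d a * cou b := fun a b => by
    show der v (wt lam (a * b) n) = cou a * der v (wt lam b n) + der v (wt lam a n) * cou b
    rw [← hn, ← hn, ← hn, map_mul, DualNumber.snd_mul, hfst, hfst, ← Algebra.smul_def,
      mul_comm (TrivSqZeroExt.snd (χ a)), ← Algebra.smul_def, AddMonoidAlgebra.coeff_add, Finsupp.add_apply,
      AddMonoidAlgebra.coeff_smul, AddMonoidAlgebra.coeff_smul, Finsupp.smul_apply, Finsupp.smul_apply]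
    simp [mul_comm]
  have hd1 : d 1 = 0 := by
    have := hd 1 1
    rw [_root_.mul_one, map_one cou, _root_.one_mul, _root_.mul_one] at this
    simpa using this
  let w : Ob (k := k) (DualNumber k) ⟶ G := pG (ptD d hd hd1 DualNumber.eps (LieS.eps_sq k))
  refine ⟨⟨w, (LieS.mem_Lie_iff G k (f₀ k) w).mpr ?_⟩, fun a => ?_⟩
  · refine zeroSec_of_fst' (f₀ k) w (pG_fst _ fun a => ?_)
    rw [ptD_apply]
    simp [TrivSqZeroExt.algebraMap_eq_inl']
  · show TrivSqZeroExt.snd (coord w a) = d a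
    rw [coord_pG, ptD_apply]
    simp [TrivSqZeroExt.algebraMap_eq_inl']

end Groth.Agent.Deform.LieWeight
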