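import Groth.Agent.Deform.LieWeight.Basic

/-!
# A one-parameter subgroup of a group with nilpotent Lie algebra fixes tangent vectors modulo roots of unity
-/

set_option autoImplicit false
set_option linter.style.haveILetI false
set_option linter.unusedSectionVars false
set_option maxHeartbeats 1000000

universe u

open CategoryTheory CategoryTheory.Limits MonoidalCategory CartesianMonoidalCategory AlgebraicGeometry
open scoped MonObj LaurentPolynomial

attribute [local instance] CategoryTheory.Hom.monoid CategoryTheory.Hom.group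

noncomputable section

namespace Groth.Agent.Deform.LieWeight

open GrpSchLib.Kunneth (Fn ev)

variable {k : Type u} [Field k] {G : Over (Spec (CommRingCat.of k))} [IsAffine G.left] [GrpObj G]
  (lam : Red.Gm (Spec (CommRingCat.of k)) ⟶ G) [IsMonHom lam] {C : Type u} [CommRing C] [Algebra k C]

theorem wt_wt (a : Fn G) (n i : ℤ) : wt lam (wt lam a n) i = if n = i then wt lam a n else 0 :=
  coeff_Phi_wt lam a i n

/-- Vanishing on the components of weight prime to the characteristic gives invariance. -/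
theorem cj_ev_weight (v w : LieS.Lie G k (f₀ k)) (n : ℤ) (hw : ∀ a, der w a = der v (wt lam a n)) (u : Cˣ) (c c' : C)
    (hc : c * c = 0) (hc' : c' * c' = 0) (e : c' = ((u ^ n : Cˣ) : C) * c) :
    cj lam (un u) (LieSLib.ev w c hc) = LieSLib.ev w c' hc' := by
  refine coord_injective (AlgHom.ext fun a => ?_)
  have h1 : coord (cj lam (un u) (LieSLib.ev w c hc)) = cjA lam u (coord (LieSLib.ev w c hc)) := by
    show _ = coord (cj lam (un u) (pG (coord (LieSLib.ev w c hc))))
    rw [coord_injective (coord_pG (coord (LieSLib.ev w c hc)))]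
  rw [h1, cjA_sum, coord_ev, Finsupp.sum]
  have h2 : ∀ i : ℤ, coord (LieSLib.ev w c hc) (wt lam a i) * ((u ^ i : Cˣ) : C) =
      (if i = 0 then algebraMap k C (cou a) else 0) + (if i = n then algebraMap k C (der w a) * c' else 0) := by
    intro i
    rw [coord_ev, cou_wt, hw, wt_wt]
    split_ifs with h0 h1 h1 <;> subst_vars <;> simp_all [mul_comm, mul_left_comm] <;> ring
  refine (Finset.sum_congr rfl fun i _ => h2 i).trans ?_
  rw [Finset.sum_add_distrib, Finset.sum_ite_eq', Finset.sum_ite_eq', hw]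
  congr 1
  · split_ifs with h
    · rfl
    · rw [← map_zero (algebraMap k C)]
      congr 1
      have := cou_wt lam a 0
      rw [wt, Finsupp.notMem_support_iff.mp h, map_zero, if_pos rfl] at this
      exact this
  · split_ifs with h
    · rfl
    · rw [wt, Finsupp.notMem_support_iff.mp h, map_zero, map_zero, zero_mul]

theorem un_map {C' : Type u} [CommRing C'] [Algebra k C'] (h : C →ₐ[k] C') (u : Cˣ) :
    Units.map (ev (obMap h)).toRingHom.toMonoidHom (un (k := k) u) = un (Units.map h.toRingHom.toMonoidHom u) := by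
  refine Units.ext ((fnOb (k := k) C').injective ?_)
  show fnOb C' (ev (obMap h) ((fnOb C).symm (u : C))) = fnOb C' ((fnOb C').symm (h u))
  rw [fnOb_map, AlgEquiv.apply_symm_apply, AlgEquiv.apply_symm_apply]

/-- The unit `1 + c`. -/
def oneAdd (c : C) (hc : c * c = 0) : Cˣ where
  val := 1 + c
  inv := 1 - c
  val_inv := by linear_combination -hc
  inv_val := by linear_combination -hc

theorem oneAdd_zpow (c : C) (hc : c * c = 0) (n : ℤ) : ((oneAdd c hc ^ n : Cˣ) : C) = 1 + (n : C) * c := by
  induction n using Int.induction_on with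
  | zero => simp
  | succ m hm =>
    rw [zpow_add_one, Units.val_mul, hm]
    show (1 + _ * c) * (1 + c) = _
    push_cast
    linear_combination (m : C) * hc
  | pred m hm =>
    rw [zpow_sub_one, Units.val_mul, hm]
    show (1 + _ * c) * (1 - c) = _
    push_cast
    linear_combination (m : C) * hc

omit [IsAffine G.left] in
theorem dLie_mem : LieS.zeroSec k (f₀ k) ≫
    ((GmPts.ptOfUnit (un (oneAdd (DualNumber.eps : DualNumber k) (LieS.eps_sq k))) ≫ lam : Ob (k := k) (DualNumber k) ⟶ G) :
      LieS.dpt k (f₀ k) ⟶ G) = 1 := by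
  refine zeroSec_of_fst' (f₀ k) _ ?_
  show obMap (TrivSqZeroExt.fstHom k k k) ≫ GmPts.ptOfUnit (un (oneAdd (DualNumber.eps : DualNumber k) _)) ≫ lam = 1
  rw [← Category.assoc, GmPts.ptOfUnit_comp]
  have h1 : Units.map (TrivSqZeroExt.fstHom k k k).toRingHom.toMonoidHom
      (oneAdd (DualNumber.eps : DualNumber k) (LieS.eps_sq k)) = 1 := Units.ext (by simp [oneAdd])
  refine (congrArg (fun q => GmPts.ptOfUnit q ≫ lam) ((un_map (TrivSqZeroExt.fstHom k k k) _).trans
    ((congrArg (un (k := k)) h1).trans (map_one _)))).trans ?_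
  rw [GmPts.ptOfUnit_one, MonObj.one_comp]

/-- The derivative of the one-parameter subgroup. -/
def dLie : LieS.Lie G k (f₀ k) := ⟨_, (LieS.mem_Lie_iff G k (f₀ k) _).mpr (dLie_mem lam)⟩

theorem ev_dLie (c : C) (hc : c * c = 0) :
    LieSLib.ev (dLie lam) c hc = GmPts.ptOfUnit (un (oneAdd c hc)) ≫ lam := by
  have h1 : Units.map (dHom (k := k) c hc).toRingHom.toMonoidHom
      (oneAdd (DualNumber.eps : DualNumber k) (LieS.eps_sq k)) = oneAdd c hc := Units.ext (by
    simp [oneAdd, dHom])
  rw [obMap_dHom]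
  show obMap (dHom c hc) ≫ GmPts.ptOfUnit _ ≫ lam = _
  rw [← Category.assoc, GmPts.ptOfUnit_comp]
  exact congrArg (fun q => GmPts.ptOfUnit q ≫ lam) ((un_map _ _).trans (congrArg _ h1))

/-- **A weight vector is an eigenvector of the derivative.** -/
theorem br_weight (v w : LieS.Lie G k (f₀ k)) (n : ℤ) (hw : ∀ a, der w a = der v (wt lam a n)) :
    LieSLib.br (dLie lam) w = (n : k) • w := by
  refine LieSLib.br_unique ?_
  have hs := LieSLib.e1_sq k
  have he2 := LieSLib.e2_sq k
  have h12 := LieSLib.e12_sq k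
  have hnc : algebraMap k (LieS.D2 k) (n : k) * (LieSLib.e1 k * LieSLib.e2 k) *
      (algebraMap k (LieS.D2 k) (n : k) * (LieSLib.e1 k * LieSLib.e2 k)) = 0 := by
    linear_combination (algebraMap k (LieS.D2 k) (n : k) * algebraMap k (LieS.D2 k) (n : k)) * h12
  let c' : LieS.D2 k := algebraMap k (LieS.D2 k) (n : k) * (LieSLib.e1 k * LieSLib.e2 k)
  have hsum : (c' + LieSLib.e1 k) * (c' + LieSLib.e1 k) = 0 := by
    linear_combination hnc + (2 * algebraMap k (LieS.D2 k) (n : k) * LieSLib.e2 k + 1) * hs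
  have hcc : c' * LieSLib.e1 k = 0 := by
    linear_combination (algebraMap k (LieS.D2 k) (n : k) * LieSLib.e2 k) * hs
  have key : cj lam (un (oneAdd (LieSLib.e2 k) he2)) (LieSLib.ev w (LieSLib.e1 k) hs) =
      LieSLib.ev w c' hnc * LieSLib.ev w (LieSLib.e1 k) hs := by
    rw [← ev_add w c' (LieSLib.e1 k) hnc hs hcc hsum]
    refine cj_ev_weight lam v w n hw _ _ _ hs hsum ?_
    rw [oneAdd_zpow, ← map_intCast (algebraMap k (LieS.D2 k)) n]
    ring
  rw [LieSLib.com, ev_dLie lam (LieSLib.e2 k) he2]
  show cj lam (un (oneAdd (LieSLib.e2 k) he2)) (LieSLib.ev w (LieSLib.e1 k) hs) *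
    (LieSLib.ev w (LieSLib.e1 k) hs)⁻¹ = _
  rw [key, mul_inv_cancel_right]
  exact (LieSLib.ev_smul (n : k) w _ h12 hnc).symm

/-- With a nilpotent Lie algebra, tangent vectors have only weights divisible by the characteristic. -/
theorem der_wt_eq_zero {L : Type u} [LieRing L] [LieAlgebra k L] (m : LieS.Model G k (f₀ k) L)
    (hL : LieRing.IsNilpotent L) (v : LieS.Lie G k (f₀ k)) (n : ℤ) (hn : (n : k) ≠ 0) (a : Fn G) :
    der v (wt lam a n) = 0 := by
  obtain ⟨w, hw⟩ := exists_component lam v n
  let x : L := Multiplicative.toAdd (m.e.symm (dLie lam))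
  let y : L := Multiplicative.toAdd (m.e.symm w)
  have hbr : ⁅x, y⁆ = (n : k) • y := by
    have h1 := m.e_lie x y
    rw [show m.e (Multiplicative.ofAdd x) = dLie lam from m.e.apply_symm_apply _,
      show m.e (Multiplicative.ofAdd y) = w from m.e.apply_symm_apply _] at h1
    have h2 := LieSLib.isBracket_br (dLie lam) w
    rw [br_weight lam v w n hw] at h2
    have h3 : m.e (Multiplicative.ofAdd ⁅x, y⁆) = (n : k) • w :=
      S8361.result (Spec (CommRingCat.of k)) G k (f₀ k) _ _ _ _ h1 h2
    have h4 := m.e_smul (n : k) y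
    rw [show m.e (Multiplicative.ofAdd y) = w from m.e.apply_symm_apply _] at h4
    exact Multiplicative.ofAdd.injective (m.e.injective (h3.trans h4.symm))
  haveI : LieModule.IsNilpotent L L := hL
  obtain ⟨j, hj⟩ := LieModule.exists_forall_pow_toEnd_eq_zero k L L
  have hpow : ∀ i : ℕ, (LieModule.toEnd k L L x ^ i) y = (n : k) ^ i • y := fun i => by
    induction i with
    | zero => simp
    | succ i hi =>
      rw [pow_succ', Module.End.mul_apply, hi, map_smul, LieModule.toEnd_apply_apply, hbr, smul_smul, ← pow_succ]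
  have hy : y = 0 := by
    have := hpow j
    rw [hj x, LinearMap.zero_apply] at this
    exact (smul_eq_zero.mp this.symm).resolve_left (pow_ne_zero _ hn)
  have hw1 : w = 1 := by
    rw [← m.e.apply_symm_apply w, show m.e.symm w = 1 from Multiplicative.toAdd.injective hy, map_one]
  rw [← hw, hw1]
  show TrivSqZeroExt.snd (coord (1 : Ob (k := k) (DualNumber k) ⟶ G) a) = 0
  rw [show (1 : Ob (k := k) (DualNumber k) ⟶ G) = pG (couC (DualNumber k)) from pG_couC.symm, coord_pG]
  show TrivSqZeroExt.snd (algebraMap k (DualNumber k) (cou a)) = 0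
  simp [TrivSqZeroExt.algebraMap_eq_inl']

/-- **Roots of unity fix every tangent vector.** -/
theorem cj_fix {L : Type u} [LieRing L] [LieAlgebra k L] (m : LieS.Model G k (f₀ k) L) (hL : LieRing.IsNilpotent L)
    (v : LieS.Lie G k (f₀ k)) (h : DualNumber k →ₐ[k] C) (u : Cˣ) (hu : ∀ i : ℤ, (i : k) = 0 → u ^ i = 1) :
    cj lam (un u) (obMap h ≫ v.1) = obMap h ≫ v.1 := by
  refine coord_injective ?_
  have h1 : coord (cj lam (un u) (obMap h ≫ v.1)) = cjA lam u (coord (obMap h ≫ v.1)) := by
    show _ = coord (cj lam (un u) (pG (coord (obMap h ≫ v.1))))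
    rw [coord_injective (coord_pG (coord (obMap h ≫ v.1)))]
  rw [h1]
  refine cjA_eq_self lam u _ hu fun a i hi => ?_
  rw [coord_map, AlgHom.comp_apply]
  have hz : coord v.1 (wt lam a i) = 0 := by
    refine TrivSqZeroExt.ext ?_ ?_
    · rw [coord_fst, cou_wt, if_neg, TrivSqZeroExt.fst_zero]
      rintro rfl
      exact hi Int.cast_zero
    · exact (der_wt_eq_zero lam m hL v i hi a).trans TrivSqZeroExt.snd_zero.symm
  rw [hz, map_zero]

end Groth.Agent.Deform.LieWeight
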