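import Groth.Agent.Deform.LieWeight.Fix
import Groth.Agent.Deform.LieEq.Basic
import Groth.Agent.Deform.DiagMaps
import Groth.Agent.Deform.SplitQuot
import Groth.Agent.Deform.TorusAlg
import Groth.Agent.S5247

/-!
# Nilpotent Lie algebra and trivial reductive centre: no tori
-/

set_option autoImplicit false
set_option linter.style.haveILetI false
set_option linter.unusedSectionVars false
set_option maxHeartbeats 1000000

universe u

open CategoryTheory CategoryTheory.Limits MonoidalCategory CartesianMonoidalCategory AlgebraicGeometry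
open scoped MonObj LaurentPolynomial

attribute [local instance] CategoryTheory.Hom.monoid CategoryTheory.Hom.group

noncomputable section

namespace Groth.Agent.Deform.LieWeight

open GrpSchLib.Kunneth (Fn ev)
open DSPtsLib (CoordM spU pt)
open GrpSchLib.SubgroupFactor (pull pull_single)

variable {k : Type u} [Field k]

theorem exists_obMap {C C' : Type u} [CommRing C] [Algebra k C] [CommRing C'] [Algebra k C']
    (g : Ob (k := k) C' ⟶ Ob (k := k) C) : ∃ h : C →ₐ[k] C', g = obMap h := by
  refine ⟨(fnOb C').toAlgHom.comp ((ev g).comp (fnOb C).symm.toAlgHom), ?_⟩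
  haveI : IsAffine (Ob (k := k) C).left := inferInstanceAs (IsAffine (Spec (CommRingCat.of C)))
  refine hom_ext_fn (AlgHom.ext fun r => (fnOb (k := k) C').injective ?_)
  rw [fnOb_map]
  show fnOb C' (ev g r) = fnOb C' (ev g ((fnOb C).symm (fnOb C r)))
  rw [AlgEquiv.symm_apply_apply]

theorem pt_pow {S : Scheme.{u}} {M : Type} [AddCommGroup M] {B : Type u} [CommRing B]
    (j : Spec (CommRingCat.of B) ⟶ S) (c : CoordM.{u} M →+* B) (m : ℕ) :
    (pt j c) ^ m = pt j (pull (m • AddMonoidHom.id M) c) := by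
  induction m with
  | zero =>
    rw [pow_zero]
    exact (DiagMaps.pt_eq_one j _ fun a => by
      rw [pull_single]; simp; exact map_one c).symm
  | succ n hn =>
    rw [pow_succ, hn]
    exact DSPtsLib.pt_mul j _ _ _ fun a => by
      rw [pull_single, pull_single, ← map_mul, MonoidAlgebra.single_mul_single, _root_.mul_one]
      congr 2
      show Multiplicative.ofAdd ((n + 1) • Multiplicative.toAdd a) = Multiplicative.ofAdd (n • Multiplicative.toAdd a) * a
      rw [succ_nsmul]
      rfl

/-- The roots of unity of order the characteristic. -/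
abbrev muChar (S : Scheme.{u}) (p : ℕ) : Over S := Red.DS S (ZMod p)

/-- The inclusion into the multiplicative group. -/
abbrev muIncl (S : Scheme.{u}) (p : ℕ) : muChar S p ⟶ Red.Gm S := Red.DSmap S (Int.castAddHom (ZMod p))

theorem muIncl_pow (S : Scheme.{u}) (p : ℕ) : muIncl S p ^ p = 1 := by
  refine DiagMaps.hom_ext_pt _ _ fun B _ j c => ?_
  rw [MonObj.comp_pow, DiagMaps.pt_DSmap, pt_pow, MonObj.comp_one]
  refine DiagMaps.pt_eq_one j _ fun a => ?_
  rw [pull_single, pull_single]
  simp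
  exact map_one c

theorem not_trivial_mu (p : ℕ) (hp : p ≠ 1) : ¬ Red.IsTrivialGrp (muChar (Spec (CommRingCat.of k)) p) := by
  intro h
  haveI : IsIso (muChar (Spec (CommRingCat.of k)) p).hom := h
  let M := ZMod p
  let B : Type u := MonoidAlgebra k (Multiplicative M)
  let j : Spec (CommRingCat.of B) ⟶ Spec (CommRingCat.of k) := Spec.map (CommRingCat.ofHom (algebraMap k B))
  letI : Algebra (ULift.{u} ℤ) B := ((algebraMap ℤ B).comp ULift.ringEquiv.toRingHom).toAlgebra
  let c : CoordM.{u} M →+* B :=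
    GrpSchLib.HomMonoLocus.charOf (R := ULift.{u} ℤ) (MonoidAlgebra.of k (Multiplicative M))
  have h1 : pt j c = 1 := Over.OverMorphism.ext (by
    rw [← cancel_mono (muChar (Spec (CommRingCat.of k)) p).hom, Over.w, Over.w])
  have h2 := DiagMaps.pt_single_eq_one j h1 (Multiplicative.ofAdd (1 : M))
  simp only [c, GrpSchLib.HomMonoLocus.charOf_single] at h2
  have h3 : (Multiplicative.ofAdd (1 : M)) = 1 := by
    rw [MonoidAlgebra.of_apply, MonoidAlgebra.one_def] at h2
    exact MonoidAlgebra.single_left_injective one_ne_zero h2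
  haveI : Fact (p ≠ 1) := ⟨hp⟩
  haveI : Nontrivial (ZMod p) := ZMod.nontrivial_iff.mpr hp
  exact one_ne_zero (α := ZMod p) (Multiplicative.ofAdd.injective h3)

variable {G : Over (Spec (CommRingCat.of k))} [GrpObj G] [Smooth G.hom] [IsAffine G.left] [ConnectedSpace G.left]

/-- The roots of unity in a one-parameter subgroup are central. -/
theorem mu_central {L : Type u} [LieRing L] [LieAlgebra k L] (m : LieS.Model G k (f₀ k) L) (hL : LieRing.IsNilpotent L)
    (lam : Red.Gm (Spec (CommRingCat.of k)) ⟶ G) [IsMonHom lam] :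
    ∀ (X : Over (Spec (CommRingCat.of k))) (h : X ⟶ muChar (Spec (CommRingCat.of k)) (ringChar k)) (g : X ⟶ G),
      (h ≫ muIncl _ _ ≫ lam) * g = g * (h ≫ muIncl _ _ ≫ lam) := by
  let p := ringChar k
  let Z := muChar (Spec (CommRingCat.of k)) p
  let z : Z ⟶ G := muIncl _ _ ≫ lam
  haveI : AddGroup.FG (ZMod p) := by
    refine AddGroup.fg_of_surjective (f := Int.castAddHom (ZMod p)) ZMod.intCast_surjective
  have hZ : SGA3x.IsMultTypeFT Z := SplitQuot.isMultTypeFT_DS _ _
  haveI : IsAffineHom G.hom := isAffineHom_of_isAffine _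
  obtain ⟨Cz, gC, c, hc, hcc, hcs⟩ := S5247.result Z G hZ inferInstance inferInstance z
  haveI := hc.1; haveI := hcc; haveI := hcs
  have htan : ∀ v : LieS.dpt k (f₀ k) ⟶ G, v ∈ LieS.Lie G k (f₀ k) →
      ∃ w : LieS.dpt k (f₀ k) ⟶ Cz, w ≫ c = v := by
    intro v hv
    refine (hc.2.2 _ v).mpr fun X' x h => ?_
    let P : Over (Spec (CommRingCat.of k)) := LieS.dpt k (f₀ k) ⊗ Z
    haveI : IsAffine Z.left := by
      haveI : IsAffineHom Z.hom := (TransLib.multTypeFT_essFree hZ).1
      exact isAffine_of_isAffineHom Z.hom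
    haveI : IsAffine P.left := by
      haveI : IsAffine (LieS.dpt k (f₀ k)).left := inferInstanceAs (IsAffine (Spec (CommRingCat.of (DualNumber k))))
      exact inferInstanceAs (IsAffine (pullback (LieS.dpt k (f₀ k)).hom Z.hom))
    suffices hP : (fst _ Z ≫ v) * (snd (LieS.dpt k (f₀ k)) Z ≫ z) = (snd _ Z ≫ z) * (fst _ Z ≫ v) by
      have := congrArg (lift x h ≫ ·) hP
      simpa only [MonObj.comp_mul, lift_fst_assoc, lift_snd_assoc] using this
    let C : Type u := Fn P
    let e : Ob (k := k) C ⟶ P := Over.homMk P.left.isoSpec.inv (by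
      rw [ob_hom, Iso.inv_comp_eq]
      show P.hom = P.left.toSpecΓ ≫ Spec.map ((Scheme.ΓSpecIso (CommRingCat.of k)).inv ≫ P.hom.appTop)
      rw [Spec.map_comp, ← Scheme.toSpecΓ_naturality_assoc, toSpecΓ_SpecMap_ΓSpecIso_inv, Category.comp_id])
    haveI : IsIso e.left := inferInstanceAs (IsIso P.left.isoSpec.inv)
    haveI : IsIso e := by
      haveI : IsIso ((Over.forget _).map e) := inferInstanceAs (IsIso e.left)
      exact isIso_of_reflects_iso e (Over.forget _)
    rw [← cancel_epi e, MonObj.comp_mul, MonObj.comp_mul, ← Category.assoc e, ← Category.assoc e]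
    obtain ⟨q, hq⟩ := exists_obMap (C := DualNumber k) (e ≫ fst _ Z)
    let t : Ob (k := k) C ⟶ Red.Gm (Spec (CommRingCat.of k)) := (e ≫ snd _ Z) ≫ muIncl _ _
    let u : Cˣ := Units.map (fnOb (k := k) C).toAlgHom.toRingHom.toMonoidHom (GmPts.unitOfPt t)
    have hu : GmPts.ptOfUnit (un u) = t := by
      rw [show un (k := k) u = GmPts.unitOfPt t from Units.ext ((fnOb (k := k) C).symm_apply_apply _),
        GmPts.ptOfUnit_unitOfPt]
    have hup : u ^ (p : ℤ) = 1 := by
      have h1 : t ^ p = 1 := by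
        rw [← MonObj.comp_pow, muIncl_pow, MonObj.comp_one]
      rw [zpow_natCast]
      show (Units.map _ (GmPts.equiv _ t)) ^ p = 1
      rw [← map_pow, ← map_pow, h1, map_one, map_one]
    have hfix := cj_fix lam m hL ⟨v, hv⟩ q u fun i hi => by
      obtain ⟨d, rfl⟩ := (CharP.intCast_eq_zero_iff k p i).mp hi
      rw [zpow_mul, hup, one_zpow]
    rw [cj, hu, ← hq, mul_inv_eq_iff_eq_mul] at hfix
    rw [show (e ≫ snd _ Z) ≫ z = t ≫ lam from (Category.assoc _ _ _).symm]
    exact hfix.symm
  have hid : f₀ k = 𝟙 (Spec (CommRingCat.of k)) := by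
    show Spec.map _ = _
    rw [Algebra.algebraMap_self, CommRingCat.ofHom_id, Spec.map_id]
  rw [hid] at htan
  haveI : IsIso c.left := LieEq.isIso_of_tangent c htan
  haveI : IsIso c := by
    haveI : IsIso ((Over.forget _).map c) := inferInstanceAs (IsIso c.left)
    exact isIso_of_reflects_iso c (Over.forget _)
  intro X h g
  have h1 := (hc.2.2 X g).mp ⟨g ≫ inv c, by rw [Category.assoc, IsIso.inv_hom_id, Category.comp_id]⟩ X (𝟙 X) h
  simpa only [Category.id_comp] using h1.symm

variable [IsAlgClosed k]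

/-- **A group with nilpotent Lie algebra and trivial reductive centre has no subtorus.** -/
theorem hasNoSubtorus {L : Type u} [LieRing L] [LieAlgebra k L] (m : LieS.Model G k (f₀ k) L)
    (hL : LieRing.IsNilpotent L)
    (hZ : ∀ (Z : Over (Spec (CommRingCat.of k))) [GrpObj Z] (z : Z ⟶ G) [IsMonHom z] [Mono z], SGA3x.IsMultTypeFT Z →
      (∀ (X : Over (Spec (CommRingCat.of k))) (x : X ⟶ Z) (g : X ⟶ G), (x ≫ z) * g = g * (x ≫ z)) → Red.IsTrivialGrp Z) :
    Red.HasNoSubtorus k G := by
  intro T _ j _ _ hT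
  obtain ⟨r, ⟨e⟩⟩ := Deform.exists_split T hT
  haveI : IsMonHom e.hom.hom.hom := e.hom.hom.isMonHom_hom
  haveI : IsMonHom e.inv.hom.hom := e.inv.hom.isMonHom_hom
  haveI : IsIso e.inv.hom.hom := ((Grp.forget _).mapIso e.symm).isIso_hom
  haveI : IsIso e.hom.hom.hom := ((Grp.forget _).mapIso e).isIso_hom
  rcases Nat.eq_zero_or_pos r with rfl | hr
  · haveI : IsIso (Red.DS (Spec (CommRingCat.of k)) (Fin 0 → ℤ)).hom := by
      refine MorphismProperty.pullback_snd (P := MorphismProperty.isomorphisms Scheme.{u}) _ _ ?_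
      show IsIso (Spec.map (CommRingCat.ofHom
        (algebraMap (ULift.{u} ℤ) (MonoidAlgebra (ULift.{u} ℤ) (Multiplicative (Fin 0 → ℤ))))))
      haveI : IsIso (CommRingCat.ofHom
          (algebraMap (ULift.{u} ℤ) (MonoidAlgebra (ULift.{u} ℤ) (Multiplicative (Fin 0 → ℤ))))) :=
        (ConcreteCategory.isIso_iff_bijective _).2
          (MonoidAlgebra.uniqueAlgEquiv (ULift.{u} ℤ) (Multiplicative (Fin 0 → ℤ))).symm.bijective
      infer_instance
    haveI : IsIso e.hom.hom.hom.left := (Over.forget _).map_isIso e.hom.hom.hom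
    show IsIso T.hom
    rw [← Over.w e.hom.hom.hom]
    infer_instance
  exfalso
  let φ : (Fin r → ℤ) →+ ℤ := Pi.evalAddMonoidHom (fun _ => ℤ) ⟨0, hr⟩
  haveI : Mono (Red.DSmap (Spec (CommRingCat.of k)) φ) := DiagMaps.mono_DSmap fun n => ⟨fun _ => n, rfl⟩
  let lam : Red.Gm (Spec (CommRingCat.of k)) ⟶ G := Red.DSmap _ φ ≫ e.inv.hom.hom ≫ j
  haveI : Mono lam := inferInstanceAs (Mono (Red.DSmap _ φ ≫ e.inv.hom.hom ≫ j))
  haveI : IsMonHom lam := inferInstanceAs (IsMonHom (Red.DSmap _ φ ≫ e.inv.hom.hom ≫ j))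
  haveI : Mono (muIncl (Spec (CommRingCat.of k)) (ringChar k)) := DiagMaps.mono_DSmap ZMod.intCast_surjective
  haveI : AddGroup.FG (ZMod (ringChar k)) := by
    refine AddGroup.fg_of_surjective (f := Int.castAddHom (ZMod (ringChar k))) ZMod.intCast_surjective
  refine not_trivial_mu (k := k) (ringChar k) (fun h1 => ?_)
    (hZ _ (muIncl _ _ ≫ lam) (SplitQuot.isMultTypeFT_DS _ _) (mu_central m hL lam))
  haveI : CharP k 1 := h1 ▸ (inferInstance : CharP k (ringChar k))
  exact CharP.false_of_nontrivial_of_char_one (R := k)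

end Groth.Agent.Deform.LieWeight
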